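import Groth.Agent.Lib.H1Sheaf6.Ring

/-! # `H¹(L)` of a surjection is the conormal module -/

set_option autoImplicit false
set_option linter.style.haveILetI false
universe u

noncomputable section

open Algebra

namespace GrothLib.H1Sheaf6

variable {A B A' B' : Type u} [CommRing A] [CommRing B] [CommRing A'] [CommRing B']

/-- The class of an element of the kernel. -/
def kerMap (φ : A →+* B) (a : A) (ha : φ a = 0) : H1 φ :=
  letI := φ.toAlgebra
  ⟨Extension.Cotangent.mk (P := (Generators.self A B).toExtension)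
    ⟨algebraMap A (Generators.self A B).toExtension.Ring a, by
      rw [RingHom.mem_ker, ← IsScalarTower.algebraMap_apply]; exact ha⟩,
    LinearMap.mem_ker.2 (by
      rw [Extension.cotangentComplex_mk, Derivation.map_algebraMap, TensorProduct.tmul_zero])⟩

theorem kerMap_val (φ : A →+* B) (a : A) (ha : φ a = 0) :
    letI := φ.toAlgebra
    (kerMap φ a ha).1.val = Ideal.toCotangent _ ⟨algebraMap A (Generators.self A B).toExtension.Ring a, by
      rw [RingHom.mem_ker, ← IsScalarTower.algebraMap_apply]; exact ha⟩ := rfl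

theorem kerMap_add (φ : A →+* B) (a b : A) (ha : φ a = 0) (hb : φ b = 0) :
    kerMap φ (a + b) (by rw [map_add, ha, hb, add_zero]) = kerMap φ a ha + kerMap φ b hb := by
  letI := φ.toAlgebra
  refine Subtype.ext (Extension.Cotangent.ext ?_)
  rw [Extension.H1Cotangent.val_add, Extension.Cotangent.val_add, kerMap_val, kerMap_val, kerMap_val]
  refine (congrArg _ (Subtype.ext ?_)).trans (map_add _ _ _)
  exact map_add _ _ _

theorem kerMap_smul (φ : A →+* B) (c a : A) (ha : φ a = 0) :
    kerMap φ (c * a) (by rw [map_mul, ha, mul_zero]) = φ c • kerMap φ a ha := by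
  letI := φ.toAlgebra
  refine Subtype.ext ?_
  let P := (Generators.self A B).toExtension
  let x : P.ker := ⟨algebraMap A P.Ring a, by rw [RingHom.mem_ker, ← IsScalarTower.algebraMap_apply]; exact ha⟩
  show _ = algebraMap A B c • Extension.Cotangent.mk x
  rw [show algebraMap A B c = algebraMap P.Ring B (algebraMap A P.Ring c) from
    IsScalarTower.algebraMap_apply A P.Ring B c, algebraMap_smul, ← map_smul]
  refine congrArg (⇑(Extension.Cotangent.mk (P := P))) (Subtype.ext ?_)
  exact map_mul _ _ _

theorem h1map_kerMap (φ : A →+* B) (φ' : A' →+* B') (a : A →+* A') (b : B →+* B') (c : A →+* B')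
    (h₁ : c = φ'.comp a) (h₂ : c = b.comp φ) (x : A) (hx : φ x = 0) (hx' : φ' (a x) = 0) :
    h1map φ φ' a b c h₁ h₂ (kerMap φ x hx) = kerMap φ' (a x) hx' := by
  letI := φ.toAlgebra
  letI := φ'.toAlgebra
  letI := c.toAlgebra
  letI := b.toAlgebra
  letI := a.toAlgebra
  haveI : IsScalarTower A A' B' := IsScalarTower.of_algebraMap_eq' h₁
  haveI : IsScalarTower A B B' := IsScalarTower.of_algebraMap_eq' h₂
  show Algebra.H1Cotangent.map A A' B B' _ = _
  refine Subtype.ext ?_
  refine (Extension.Cotangent.map_mk _ _).trans (congrArg _ (Subtype.ext ?_))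
  exact ((Generators.self A B).defaultHom (Generators.self A' B')).toExtensionHom.toRingHom_algebraMap x

/-- For a surjection, every class comes from the kernel, and only squares of the kernel give zero. -/
theorem kerMap_surjective (φ : A →+* B) (hφ : Function.Surjective φ) :
    (∀ w, ∃ a ha, kerMap φ a ha = w) ∧ ∀ a ha, kerMap φ a ha = 0 → a ∈ RingHom.ker φ ^ 2 := by
  letI := φ.toAlgebra
  let P := (Generators.self A B).toExtension
  let P₀ : Extension.{u} A B := { Ring := A, σ := Function.surjInv hφ, algebraMap_σ := Function.surjInv_eq hφ }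
  haveI : FormallySmooth A P₀.Ring := inferInstanceAs (FormallySmooth A A)
  haveI : FormallySmooth A P.Ring := inferInstanceAs (FormallySmooth A (MvPolynomial B A))
  let g : P₀.Hom P :=
    { toRingHom := algebraMap A P.Ring
      toRingHom_algebraMap := fun _ => rfl
      algebraMap_toRingHom := fun x => (IsScalarTower.algebraMap_apply A P.Ring B x).symm }
  have hg : Function.Bijective (Extension.H1Cotangent.map g) := by
    rw [← Extension.H1Cotangent.equivOfFormallySmooth_toLinearMap g]
    exact LinearEquiv.bijective _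
  haveI : Subsingleton Ω[A⁄A] := FormallyUnramified.subsingleton_kaehlerDifferential
  have hcc : ∀ y : P₀.Cotangent, P₀.cotangentComplex y = 0 := fun y => by
    obtain ⟨z, rfl⟩ := Extension.Cotangent.mk_surjective y
    rw [Extension.cotangentComplex_mk, show KaehlerDifferential.D A P₀.Ring z.1 = 0 from
      Subsingleton.elim (α := Ω[A⁄A]) _ _, TensorProduct.tmul_zero]
  have key : ∀ (z : P₀.ker) (hz : φ z.1 = 0),
      Extension.H1Cotangent.map g ⟨Extension.Cotangent.mk z, hcc _⟩ = kerMap φ z.1 hz := fun z hz =>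
    Subtype.ext ((Extension.Cotangent.map_mk g z).trans (congrArg _ (Subtype.ext rfl)))
  refine ⟨fun w => ?_, fun a ha h0 => ?_⟩
  · obtain ⟨⟨y, hy⟩, rfl⟩ := hg.2 w
    obtain ⟨z, rfl⟩ := Extension.Cotangent.mk_surjective y
    exact ⟨z.1, z.2, (key z z.2).symm⟩
  · have h1 : (⟨Extension.Cotangent.mk (P := P₀) ⟨a, ha⟩, hcc _⟩ : P₀.H1Cotangent) = 0 :=
      hg.1 ((key ⟨a, ha⟩ ha).trans (h0.trans (map_zero _).symm))
    have h2 : Ideal.toCotangent P₀.ker ⟨a, ha⟩ = 0 := congrArg (fun q : P₀.H1Cotangent => q.1.val) h1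
    exact (Ideal.toCotangent_eq_zero _ _).1 h2

end GrothLib.H1Sheaf6
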