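import Groth.Agent.Lib.H1Sheaf6.Sheaf
import Groth.Agent.Lib.H1Sheaf6.KerMap
import Groth.Agent.Lib.IdealModSec.Basic
import Groth.Agent.Lib.BCCoh.PullSec
import Groth.Agent.Lib.CohPullLib.SecPull
import Groth.Agent.Lib.QCoh.Abelian
import Groth.Agent.Lib.QCoh.Qcqs
import Groth.Agent.Lib.Cohom.Serre
import Groth.Prelude.Def_Omega2
import Mathlib.AlgebraicGeometry.Morphisms.FormallyUnramified
import Mathlib.AlgebraicGeometry.Morphisms.Immersion

/-! # `H¹` of the naive cotangent complex of an immersion is the conormal sheaf -/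

set_option autoImplicit false
set_option linter.style.haveILetI false
set_option backward.isDefEq.respectTransparency false
set_option maxHeartbeats 1000000
universe u

noncomputable section

open CategoryTheory CategoryTheory.Limits AlgebraicGeometry Opposite TopologicalSpace
open GrothLib.BCCoh (pullRes)
open GrothLib.IdealModSec (val)

namespace GrothLib.H1Sheaf6

variable {Z X : Scheme.{u}} (i : Z ⟶ X)

theorem app_val_eq_zero (W : X.Opens) (m : Γ(ClSub.idealMod i.ker, W)) : i.app W (val i.ker W m) = 0 := by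
  rw [Scheme.Hom.congr_app i.toImage_imageι.symm W, Scheme.Hom.comp_app]
  show (Z.presheaf.map _) ((i.toImage.app _) (i.ker.subschemeι.app W (val i.ker W m))) = 0
  rw [IdealModSec.app_val, map_zero, map_zero]

theorem stalkMap_germ_val (W : X.Opens) (m : Γ(ClSub.idealMod i.ker, W)) (x : Z) (hx : i x ∈ W) :
    (i.stalkMap x).hom (X.presheaf.germ W (i x) hx (val i.ker W m)) = 0 := by
  refine (Scheme.Hom.germ_stalkMap_apply i W x hx _).trans ?_
  rw [app_val_eq_zero, map_zero]

theorem kerMap_congr {A B : Type u} [CommRing A] [CommRing B] (φ : A →+* B) {a b : A} {ha : φ a = 0}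
    {hb : φ b = 0} (h : a = b) : kerMap φ a ha = kerMap φ b hb := by
  subst h; rfl

theorem phi_kerMap (U : Z.affineOpens) (V : X.affineOpens) (e : (U : Z.Opens) ≤ i ⁻¹ᵁ (V : X.Opens)) (y : Z)
    (hy : y ∈ U.1) (a : Γ(X, V.1)) (h0 : (i.appLE V.1 U.1 e).hom a = 0)
    (h1 : (i.stalkMap y).hom ((X.presheaf.germ V.1 (i y) (e hy)).hom a) = 0) :
    phi i U V e y hy (kerMap (i.appLE V.1 U.1 e).hom a h0) =
      kerMap (i.stalkMap y).hom ((X.presheaf.germ V.1 (i y) (e hy)).hom a) h1 := by
  unfold phi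
  exact h1map_kerMap (i.appLE V.1 U.1 e).hom (i.stalkMap y).hom (X.presheaf.germ V.1 (i y) (e hy)).hom
    (Z.presheaf.germ U.1 y hy).hom (i.appLE V.1 U.1 e ≫ Z.presheaf.germ U.1 y hy).hom _ _ a h0 h1

/-- The family of classes of a section of the ideal. -/
def valFam (W : X.Opens) (m : Γ(ClSub.idealMod i.ker, W)) : repSub i (i ⁻¹ᵁ W) :=
  ⟨fun x => kerMap (i.stalkMap x.1).hom (X.presheaf.germ W (i x.1) x.2 (val i.ker W m))
    (stalkMap_germ_val i W m x.1 x.2), fun x => by
    obtain ⟨U, V, e, hx, hU, hV⟩ := exists_chart i (i ⁻¹ᵁ W) x.2 W x.2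
    have h0 : (i.appLE V.1 U.1 e).hom (X.presheaf.map (homOfLE hV).op (val i.ker W m)) = 0 := by
      rw [show X.presheaf.map (homOfLE hV).op (val i.ker W m) = val i.ker V.1 (InvExt.mres _ hV m) from
        (IdealModSec.val_mres i.ker hV m).symm]
      show Z.presheaf.map _ (i.app V.1 _) = 0
      rw [app_val_eq_zero, map_zero]
    refine ⟨U, V, e, 1, kerMap (i.appLE V.1 U.1 e).hom _ h0,
      by rwa [Scheme.basicOpen_of_isUnit _ isUnit_one], fun y hW hy => ?_⟩
    rw [map_one, one_smul]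
    have hg : X.presheaf.germ W (i y) hW (val i.ker W m) =
        (X.presheaf.germ V.1 (i y) (e (Z.basicOpen_le _ hy))).hom (X.presheaf.map (homOfLE hV).op (val i.ker W m)) :=
      (TopCat.Presheaf.germ_res_apply X.presheaf (homOfLE hV) (i y) (e (Z.basicOpen_le _ hy)) _).symm
    have h1 : (i.stalkMap y).hom
        ((X.presheaf.germ V.1 (i y) (e (Z.basicOpen_le _ hy))).hom (X.presheaf.map (homOfLE hV).op (val i.ker W m))) = 0 :=
      (congrArg (i.stalkMap y).hom hg.symm).trans (stalkMap_germ_val i W m y hW)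
    exact (kerMap_congr (i.stalkMap y).hom (hb := h1) hg).trans
      (phi_kerMap i U V e y (Z.basicOpen_le _ hy) _ h0 h1).symm⟩

attribute [local instance] germModule

theorem valFam_add (W : X.Opens) (m n : Γ(ClSub.idealMod i.ker, W)) :
    valFam i W (m + n) = valFam i W m + valFam i W n :=
  Subtype.ext (funext fun x => by
    refine Eq.trans ?_ (kerMap_add (i.stalkMap x.1).hom _ _ (stalkMap_germ_val i W m x.1 x.2)
      (stalkMap_germ_val i W n x.1 x.2))
    apply kerMap_congr
    case ha => exact stalkMap_germ_val i W _ _ _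
    show X.presheaf.germ W (i x.1) x.2 ((ClSub.idealModι i.ker).app W (m + n)) = _
    rw [map_add]
    exact map_add (X.presheaf.germ W (i x.1) x.2).hom _ _)

theorem valFam_smul (W : X.Opens) (r : Γ(X, W)) (m : Γ(ClSub.idealMod i.ker, W)) :
    valFam i W (r • m) = i.app W r • valFam i W m :=
  Subtype.ext (funext fun x => by
    refine (Eq.trans ?_ (kerMap_smul (i.stalkMap x.1).hom (X.presheaf.germ W (i x.1) x.2 r) _
      (stalkMap_germ_val i W m x.1 x.2))).trans ?_
    · apply kerMap_congr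
      case ha => exact stalkMap_germ_val i W _ _ _
      rw [IdealModSec.val_smul, map_mul]
    · exact congrArg (· • _) (Scheme.Hom.germ_stalkMap_apply i W x.1 x.2 r))

/-- The map from the ideal to the direct image. -/
def psi : ClSub.idealMod i.ker ⟶ (Scheme.Modules.pushforward i).obj (sheaf i) :=
  ⟨PresheafOfModules.homMk
    { app := fun W => AddCommGrpCat.ofHom (AddMonoidHom.mk' (valFam i W.unop) (valFam_add i W.unop))
      naturality := fun W W' h => ConcreteCategory.hom_ext _ _ fun m => Subtype.ext (funext fun x => by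
        apply kerMap_congr
        case ha => exact stalkMap_germ_val i _ _ _ _
        case hb => exact stalkMap_germ_val i _ _ _ _
        show X.presheaf.germ W'.unop (i x.1) x.2
          (val i.ker W'.unop (InvExt.mres (ClSub.idealMod i.ker) (leOfHom h.unop) m)) = _
        rw [IdealModSec.val_mres]
        exact TopCat.Presheaf.germ_res_apply X.presheaf _ _ _ _) }
    fun W r m => valFam_smul i W.unop r m⟩

theorem isQuasicoherent_idealMod (I : X.IdealSheafData) : (ClSub.idealMod I).IsQuasicoherent := by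
  have h1 := @Cohom.isQuasicoherent_structureModule.{u}
  have := h1 X
  have := h1 I.subscheme
  have : ((Scheme.Modules.pushforward I.subschemeι).obj (Coh.structureModule I.subscheme)).IsQuasicoherent :=
    QCoh.isQuasicoherent_pushforward _ _
  exact QCoh.isQuasicoherent_kernel _

theorem isIso_of_bijective_small {M N : Z.Modules} (f : M ⟶ N)
    (h : ∀ (x : Z) (U : Z.Opens), x ∈ U → ∃ W : Z.Opens, x ∈ W ∧ W ≤ U ∧ Function.Bijective (f.app W)) :
    IsIso f := by
  refine (OX.isIso_iff f).2 fun x => (ConcreteCategory.isIso_iff_bijective _).2 ?_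
  show Function.Bijective ((TopCat.Presheaf.stalkFunctor (C := Ab.{u}) x).map f.mapPresheaf)
  refine ⟨(injective_iff_map_eq_zero _).2 fun e he => ?_, fun e => ?_⟩
  · obtain ⟨U, hU, s, rfl⟩ := TopCat.Presheaf.exists_germ_eq M.presheaf e
    rw [TopCat.Presheaf.stalkFunctor_map_germ_apply] at he
    obtain ⟨O, hO, k, k', e'⟩ := TopCat.Presheaf.germ_eq N.presheaf x hU hU _ 0 (he.trans (map_zero _).symm)
    obtain ⟨W, hxW, hWO, hb⟩ := h x O hO
    have hz : M.presheaf.map (homOfLE (hWO.trans k.le)).op s = 0 := hb.1 (by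
      rw [map_zero]
      refine (CohPullLib.app_res f _ s).trans ?_
      have h2 := congrArg (N.presheaf.map (homOfLE hWO).op) e'
      simp only [map_zero] at h2
      refine Eq.trans ?_ h2
      exact ((ConcreteCategory.comp_apply _ _ _).symm.trans
        (congrArg (fun q => q (f.app U s)) (N.presheaf.map_comp k.op (homOfLE hWO).op).symm)).symm)
    have := congrArg (M.presheaf.germ W x hxW) hz
    rw [TopCat.Presheaf.germ_res_apply, map_zero] at this
    exact this
  · obtain ⟨U, hU, t, rfl⟩ := TopCat.Presheaf.exists_germ_eq N.presheaf e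
    obtain ⟨W, hxW, hWU, hb⟩ := h x U hU
    obtain ⟨s, hs⟩ := hb.2 (N.presheaf.map (homOfLE hWU).op t)
    refine ⟨M.presheaf.germ W x hxW s, ?_⟩
    rw [TopCat.Presheaf.stalkFunctor_map_germ_apply]
    refine (congrArg (N.presheaf.germ W x hxW) hs).trans ?_
    exact TopCat.Presheaf.germ_res_apply N.presheaf _ _ _ _

variable [IsImmersion i]

theorem app_surjective_small {V : X.Opens} (hV : IsAffineOpen V) (h : V ≤ i.coborderRange) :
    Function.Surjective (i.app V) ∧ IsAffineOpen (i ⁻¹ᵁ V) := by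
  let k := i.coborderRange.ι
  have hV' : IsAffineOpen (k ⁻¹ᵁ V) :=
    hV.preimage_of_isOpenImmersion k (by rwa [Scheme.Opens.opensRange_ι])
  have haff : IsAffineOpen (i.liftCoborder ⁻¹ᵁ (k ⁻¹ᵁ V)) := hV'.preimage _
  have heq : i ⁻¹ᵁ V = i.liftCoborder ⁻¹ᵁ (k ⁻¹ᵁ V) := by
    rw [← Scheme.Hom.comp_preimage, i.liftCoborder_ι]
  refine ⟨?_, heq ▸ haff⟩
  haveI : IsIso (k.app V) := k.isIso_app V (by rwa [Scheme.Opens.opensRange_ι])
  rw [Scheme.Hom.congr_app i.liftCoborder_ι.symm V, Scheme.Hom.comp_app]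
  exact ((ConcreteCategory.bijective_of_isIso (Z.presheaf.map _)).2.comp
    ((i.liftCoborder.app_surjective _ hV').comp (ConcreteCategory.bijective_of_isIso (k.app V)).2))

/-- The comparison map. -/
def cmp : Omega.conormal i ⟶ sheaf i :=
  ((Scheme.Modules.pullbackPushforwardAdjunction i).homEquiv _ _).symm (psi i)

omit [IsImmersion i] in
theorem cmp_pullRes (V : X.Opens) (U : Z.Opens) (e : U ≤ i ⁻¹ᵁ V) (m : Γ(ClSub.idealMod i.ker, V)) :
    (cmp i).app U (pullRes i (ClSub.idealMod i.ker) V U e m) = (repRes i e (valFam i V m) : repSub i U) := by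
  rw [CohPullLib.pullRes_def]
  refine (CohPullLib.app_res (cmp i) e _).trans ?_
  refine congrArg (repRes i e) ?_
  have h : (Scheme.Modules.pullbackPushforwardAdjunction i).unit.app _ ≫
      (Scheme.Modules.pushforward i).map (cmp i) = psi i :=
    ((Scheme.Modules.pullbackPushforwardAdjunction i).homEquiv_unit _ _ _).symm.trans (Equiv.apply_symm_apply _ _)
  exact congrArg (fun t' => (Scheme.Modules.Hom.app t' V) m) h

theorem isIso_cmp [QuasiCompact i] : IsIso (cmp i) := by
  refine isIso_of_bijective_small (cmp i) fun x O hx => ?_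
  obtain ⟨W', hW', hWO⟩ := (i.isEmbedding.isInducing.isOpen_iff).1 O.2
  have hxW : i x ∈ W' := by rw [← Set.mem_preimage, hWO]; exact hx
  obtain ⟨V, hV, hxV, hle⟩ := exists_isAffineOpen_mem_and_subset
    (show i x ∈ (⟨W', hW'⟩ : X.Opens) ⊓ i.coborderRange from ⟨hxW, by
      show i x ∈ i.coborderRange
      have h2 := congrArg (fun q : Z ⟶ X => q x) i.liftCoborder_ι
      exact h2 ▸ (i.liftCoborder x).2⟩)
  obtain ⟨hsur, hU⟩ := app_surjective_small i hV (fun z hz => (hle hz).2)
  refine ⟨i ⁻¹ᵁ V, hxV, fun z hz => (show i ⁻¹' W' = (O : Set Z) from hWO).le (hle hz).1, ?_⟩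
  let U : Z.affineOpens := ⟨i ⁻¹ᵁ V, hU⟩
  let V' : X.affineOpens := ⟨V, hV⟩
  let M := ClSub.idealMod i.ker
  haveI : M.IsQuasicoherent := isQuasicoherent_idealMod _
  let φ := (i.appLE V (i ⁻¹ᵁ V) le_rfl).hom
  have hφ : Function.Surjective φ := by
    show Function.Surjective (i.appLE V (i ⁻¹ᵁ V) le_rfl).hom
    rw [← Scheme.Hom.app_eq_appLE]
    exact hsur
  have hval0 : ∀ m : Γ(M, V), φ (val i.ker V m) = 0 := fun m => by
    show (i.appLE V (i ⁻¹ᵁ V) le_rfl).hom _ = 0
    rw [← Scheme.Hom.app_eq_appLE]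
    exact app_val_eq_zero i V m
  have hfam : ∀ m : Γ(M, V), (cmp i).app U.1 (pullRes i M V U.1 le_rfl m) =
      toFam i U V' le_rfl (kerMap φ (val i.ker V m) (hval0 m)) := fun m => by
    refine (cmp_pullRes i V U.1 le_rfl m).trans (Subtype.ext (funext fun y => ?_))
    exact (phi_kerMap i U V' le_rfl y.1 y.2 _ (hval0 m) (stalkMap_germ_val i V m y.1 y.2)).symm
  obtain ⟨hk₁, hk₂⟩ := kerMap_surjective φ hφ
  have hI : ∀ a : Γ(X, V), φ a = 0 → ∃ m : Γ(M, V), val i.ker V m = a := fun a ha => by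
    refine IdealModSec.exists_val_eq i.ker V' ?_
    rw [Scheme.Hom.ker_apply]
    exact RingHom.mem_ker.2 (by rw [Scheme.Hom.app_eq_appLE]; exact ha)
  letI : Algebra Γ(X, V) Γ(Z, i ⁻¹ᵁ V) := φ.toAlgebra
  letI : Module Γ(X, V) Γ((Scheme.Modules.pullback i).obj M, i ⁻¹ᵁ V) := Module.compHom _ φ
  haveI : IsScalarTower Γ(X, V) Γ(Z, i ⁻¹ᵁ V) Γ((Scheme.Modules.pullback i).obj M, i ⁻¹ᵁ V) :=
    IsScalarTower.of_algebraMap_smul fun _ _ => rfl
  obtain ⟨p, hp, hps⟩ := BCCoh.isBaseChange_pullRes i M hV hU (le_refl (i ⁻¹ᵁ V))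
  have hgen : ∀ z, ∃ m : Γ(M, V), pullRes i M V (i ⁻¹ᵁ V) le_rfl m = z := by
    intro z
    induction z using hp.inductionOn with
    | zero => exact ⟨0, (hps 0).symm.trans (map_zero p)⟩
    | tmul m => exact ⟨m, (hps m).symm⟩
    | smul b n hn =>
      obtain ⟨m, rfl⟩ := hn
      obtain ⟨a, rfl⟩ := hφ b
      exact ⟨a • m, BCCoh.pullRes_smul i M V _ le_rfl a m⟩
    | add a b ha hb =>
      obtain ⟨m, rfl⟩ := ha
      obtain ⟨n, rfl⟩ := hb
      exact ⟨m + n, BCCoh.pullRes_add i M V _ le_rfl m n⟩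
  constructor
  · refine (injective_iff_map_eq_zero _).2 fun z hz => ?_
    obtain ⟨m, rfl⟩ := hgen z
    have h0 : kerMap φ (val i.ker V m) (hval0 m) = 0 :=
      (bijective_toFam i U V' le_rfl).1 (((hfam m).symm.trans hz).trans
        (Subtype.ext (funext fun y => (map_zero (phi i U V' le_rfl y.1 y.2)).symm)))
    have hsq := hk₂ _ _ h0
    rw [pow_two] at hsq
    suffices H : ∀ a, a ∈ RingHom.ker φ * RingHom.ker φ → φ a = 0 ∧ ∀ n : Γ(M, V), val i.ker V n = a →
        pullRes i M V (i ⁻¹ᵁ V) le_rfl n = 0 from (H _ hsq).2 m rfl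
    intro a ha
    refine Submodule.mul_induction_on ha (fun c hc d hd => ?_) fun c d hc hd => ?_
    · refine ⟨by rw [map_mul, RingHom.mem_ker.1 hc, zero_mul], fun n hn => ?_⟩
      obtain ⟨k, hk⟩ := hI d (RingHom.mem_ker.1 hd)
      rw [show n = c • k from IdealModSec.val_injective _ _ (by rw [hn, IdealModSec.val_smul, hk]),
        BCCoh.pullRes_smul, show i.appLE V (i ⁻¹ᵁ V) le_rfl c = 0 from RingHom.mem_ker.1 hc, zero_smul]
    · refine ⟨by rw [map_add, hc.1, hd.1, add_zero], fun n hn => ?_⟩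
      obtain ⟨k, hk⟩ := hI c hc.1
      have hl : val i.ker V (n - k) = d := by
        show (ClSub.idealModι i.ker).app V (n - k) = d
        rw [map_sub]
        show val i.ker V n - val i.ker V k = d
        rw [hn, hk, add_sub_cancel_left]
      rw [← sub_add_cancel n k, BCCoh.pullRes_add, hd.2 _ hl, hc.2 _ hk, add_zero]
  · intro w
    obtain ⟨t, rfl⟩ := (bijective_toFam i U V' le_rfl).2 w
    obtain ⟨a, ha, rfl⟩ := hk₁ t
    obtain ⟨m, rfl⟩ := hI a ha
    exact ⟨pullRes i M V U.1 le_rfl m, hfam m⟩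

end GrothLib.H1Sheaf6

namespace GrothLib.H1Sheaf6

variable {Z X : Scheme.{u}}

theorem nonempty_h1Sheaf_of_iso {f : Z ⟶ X} {F G : Z.Modules} (φ : F ≅ G) (D : NLCx.H1Sheaf f G) :
    Nonempty (NLCx.H1Sheaf f F) := by
  have hb : ∀ U : Z.Opens, Function.Bijective (φ.hom.app U) := fun U =>
    (ConcreteCategory.isIso_iff_bijective _).1 (Scheme.Modules.Hom.isIso_iff_isIso_app.1 inferInstance U)
  refine ⟨{
    iso := fun U V e => (AddEquiv.ofBijective (φ.hom.app U.1).hom (hb U.1)).trans (D.iso U V e)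
    map_smul := fun U V e a m => ?_
    map_res := fun {U U' V V'} e e' hU hV m => ?_ }⟩
  · exact (congrArg (D.iso U V e) (Scheme.Modules.Hom.app_smul φ.hom a m)).trans (D.map_smul U V e a _)
  · exact (congrArg (D.iso U' V' e') (CohPullLib.app_res φ.hom hU m)).trans (D.map_res e e' hU hV _)

theorem nonempty_h1Sheaf_conormal (i : Z ⟶ X) [IsImmersion i] [QuasiCompact i] :
    Nonempty (NLCx.H1Sheaf i (Omega.conormal i)) :=
  haveI := isIso_cmp i
  nonempty_h1Sheaf_of_iso (asIso (cmp i)) (h1Sheaf i)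

theorem onCharts_subsingleton_kaehler (i : Z ⟶ X) [IsImmersion i] :
    NLCx.OnCharts i (fun A B _ _ _ => Subsingleton (Ω[B⁄A])) := fun U V e => by
  letI := (i.appLE V.1 U.1 e).hom.toAlgebra
  haveI : FormallyUnramified i := inferInstance
  haveI : Algebra.FormallyUnramified Γ(X, V.1) Γ(Z, U.1) := i.formallyUnramified_appLE V.2 U.2 e
  exact Algebra.FormallyUnramified.subsingleton_kaehlerDifferential

end GrothLib.H1Sheaf6
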