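import Groth.Agent.Lib.H1Sheaf6.Ring
import Groth.Agent.Lib.FlatFP.Sheaf
import Groth.Prelude.Def_SheafNL

/-! # Germs of `H¹` of the naive cotangent complex on affine charts -/

set_option autoImplicit false
set_option linter.style.haveILetI false
set_option backward.isDefEq.respectTransparency false
set_option maxHeartbeats 1000000
universe u

noncomputable section

open CategoryTheory CategoryTheory.Limits AlgebraicGeometry Opposite TopologicalSpace

namespace GrothLib.H1Sheaf6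

variable {X Y : Scheme.{u}} (f : X ⟶ Y)

/-- `H¹` of the naive cotangent complex of the local ring map at a point. -/
abbrev HS (x : X) : Type u := H1 (f.stalkMap x).hom

section chart

variable (U : X.affineOpens) (V : Y.affineOpens) (e : (U : X.Opens) ≤ f ⁻¹ᵁ (V : Y.Opens))

/-- The germ of a chart element. -/
def phi (x : X) (hx : x ∈ (U : X.Opens)) : NLCx.ChartH1 f U V e →+ HS f x :=
  h1map (f.appLE V.1 U.1 e).hom (f.stalkMap x).hom (Y.presheaf.germ V.1 (f x) (e hx)).hom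
    (X.presheaf.germ U.1 x hx).hom (f.appLE V.1 U.1 e ≫ X.presheaf.germ U.1 x hx).hom
    (by
      refine (congrArg CommRingCat.Hom.hom ?_).trans (CommRingCat.hom_comp _ _)
      rw [Scheme.Hom.germ_stalkMap, Scheme.Hom.appLE, Category.assoc, TopCat.Presheaf.germ_res])
    (CommRingCat.hom_comp _ _)

theorem phi_smul (x : X) (hx : x ∈ (U : X.Opens)) (b : Γ(X, U.1)) (z : NLCx.ChartH1 f U V e) :
    phi f U V e x hx (b • z) = X.presheaf.germ U.1 x hx b • phi f U V e x hx z :=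
  h1map_smul _ _ _ _ _ _ _ b z

theorem phi_localization (x : X) (hx : x ∈ (U : X.Opens)) :
    (∀ z, phi f U V e x hx z = 0 ↔ ∃ s ∈ (WeakAss.primeAt x hx).primeCompl, s • z = 0) ∧
      ∀ w, ∃ s ∈ (WeakAss.primeAt x hx).primeCompl, ∃ z,
        X.presheaf.germ U.1 x hx s • w = phi f U V e x hx z := by
  refine h1map_localization _ _ _ _ _ _ _ ?_ _ (FlatFP.isLocalization_stalk_primeAt U.2 hx)
  letI := Y.presheaf.algebra_section_stalk ⟨f x, e hx⟩
  haveI := FlatFP.isLocalization_stalk_primeAt V.2 (e hx)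
  exact Algebra.FormallyEtale.of_isLocalization (WeakAss.primeAt (f x) (e hx)).primeCompl

theorem eq_zero_of_phi (z : NLCx.ChartH1 f U V e) (h : ∀ (x : X) (hx : x ∈ U.1), phi f U V e x hx z = 0) : z = 0 := by
  let K : Ideal Γ(X, U.1) :=
    { carrier := {c | c • z = 0}
      add_mem' := fun {a b} ha hb => by simp only [Set.mem_ofPred_eq] at ha hb ⊢; rw [add_smul, ha, hb, add_zero]
      zero_mem' := zero_smul _ _
      smul_mem' := fun r a ha => by
        simp only [Set.mem_ofPred_eq] at ha ⊢; rw [smul_eq_mul, mul_smul, ha, smul_zero] }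
  have h1 : (1 : Γ(X, U.1)) ∈ K := FlatFP.one_mem_of_forall_point U.2 K fun y hy => by
    obtain ⟨s, hs, hsz⟩ := ((phi_localization f U V e y hy).1 z).1 (h y hy)
    exact ⟨s, hsz, hs⟩
  exact (one_smul Γ(X, U.1) z).symm.trans h1

end chart

theorem isUnit_germ {U : X.Opens} {c : Γ(X, U)} {x : X} (hx : x ∈ X.basicOpen c) :
    IsUnit (X.presheaf.germ U x (X.basicOpen_le c hx) c) :=
  (Scheme.mem_basicOpen _ _ x _).1 hx

variable {f}

theorem phi_res {U U' : X.affineOpens} {V V' : Y.affineOpens} (e : (U : X.Opens) ≤ f ⁻¹ᵁ (V : Y.Opens))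
    (e' : (U' : X.Opens) ≤ f ⁻¹ᵁ (V' : Y.Opens)) (hU : (U' : X.Opens) ≤ (U : X.Opens))
    (hV : (V' : Y.Opens) ≤ (V : Y.Opens)) (x : X) (hx : x ∈ U'.1) (z : NLCx.ChartH1 f U V e) :
    phi f U' V' e' x hx (NLCx.chartRes e e' hU hV z) = phi f U V e x (hU hx) z := by
  refine h1map_comp _ _ _ (Y.presheaf.map (homOfLE hV).op).hom (X.presheaf.map (homOfLE hU).op).hom
    (f.appLE V.1 U'.1 (hU.trans e)).hom
    ((congrArg CommRingCat.Hom.hom (Scheme.Hom.map_appLE f e' (homOfLE hV).op).symm).trans (CommRingCat.hom_comp _ _))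
    ((congrArg CommRingCat.Hom.hom (Scheme.Hom.appLE_map f e (homOfLE hU).op).symm).trans (CommRingCat.hom_comp _ _))
    _ _ _ _ _ _ _ _ _ _ ?_ ?_ z
  · rw [← CommRingCat.hom_comp, TopCat.Presheaf.germ_res]
  · rw [← CommRingCat.hom_comp, TopCat.Presheaf.germ_res]

variable (f)

/-- A chart inside given opens. -/
theorem exists_chart {x : X} (W : X.Opens) (hx : x ∈ W) (V : Y.Opens) (hV : f x ∈ V) :
    ∃ (U' : X.affineOpens) (V' : Y.affineOpens) (_ : (U' : X.Opens) ≤ f ⁻¹ᵁ (V' : Y.Opens)),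
      x ∈ U'.1 ∧ U'.1 ≤ W ∧ V'.1 ≤ V := by
  obtain ⟨V', hV', hxV', hle⟩ := exists_isAffineOpen_mem_and_subset hV
  obtain ⟨U', hU', hxU', hle'⟩ := exists_isAffineOpen_mem_and_subset (show x ∈ W ⊓ f ⁻¹ᵁ V' from ⟨hx, hxV'⟩)
  exact ⟨⟨U', hU'⟩, ⟨V', hV'⟩, fun z hz => (hle' hz).2, hxU', fun z hz => (hle' hz).1, hle⟩

/-- A family of germs is given near a point by the fraction `z / c`. -/
def RepBy {W : X.Opens} (s : ∀ x : W, HS f x.1) (U : X.affineOpens) (V : Y.affineOpens)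
    (e : (U : X.Opens) ≤ f ⁻¹ᵁ (V : Y.Opens)) (c : Γ(X, U.1)) (z : NLCx.ChartH1 f U V e) : Prop :=
  ∀ (y : X) (hW : y ∈ W) (hy : y ∈ X.basicOpen c),
    X.presheaf.germ U.1 y (X.basicOpen_le c hy) c • s ⟨y, hW⟩ = phi f U V e y (X.basicOpen_le c hy) z

/-- A family of germs is locally given by fractions. -/
def IsRep {W : X.Opens} (s : ∀ x : W, HS f x.1) : Prop :=
  ∀ x : W, ∃ (U : X.affineOpens) (V : Y.affineOpens) (e : (U : X.Opens) ≤ f ⁻¹ᵁ (V : Y.Opens))
    (c : Γ(X, U.1)) (z : NLCx.ChartH1 f U V e), x.1 ∈ X.basicOpen c ∧ RepBy f s U V e c z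

variable {f}

theorem RepBy.res {W : X.Opens} {s : ∀ x : W, HS f x.1} {U U' : X.affineOpens} {V V' : Y.affineOpens}
    {e : (U : X.Opens) ≤ f ⁻¹ᵁ (V : Y.Opens)} {c : Γ(X, U.1)} {z : NLCx.ChartH1 f U V e}
    (h : RepBy f s U V e c z) (e' : (U' : X.Opens) ≤ f ⁻¹ᵁ (V' : Y.Opens)) (hU : (U' : X.Opens) ≤ (U : X.Opens))
    (hV : (V' : Y.Opens) ≤ (V : Y.Opens)) :
    RepBy f s U' V' e' (X.presheaf.map (homOfLE hU).op c) (NLCx.chartRes e e' hU hV z) := fun y hW hy => by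
  rw [TopCat.Presheaf.germ_res_apply, phi_res]
  exact h y hW (by rw [Scheme.basicOpen_res] at hy; exact hy.2)

end GrothLib.H1Sheaf6
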