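import Groth.Agent.Lib.H1Sheaf6.Germ
import Groth.Agent.Lib.QCoh.Affine
import Groth.Prelude.Def_Coh

/-! # The sheaf `H¹` of the naive cotangent complex is quasi-coherent -/

set_option autoImplicit false
set_option linter.style.haveILetI false
set_option backward.isDefEq.respectTransparency false
set_option maxHeartbeats 1000000
universe u

open CategoryTheory CategoryTheory.Limits AlgebraicGeometry Opposite TopologicalSpace

namespace GrothLib.H1Sheaf6

variable {X Y : Scheme.{u}} {f : X ⟶ Y} {F : X.Modules}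

theorem isQuasicoherent_of_h1Sheaf (D : NLCx.H1Sheaf f F) : F.IsQuasicoherent := by
  let ι := {U : X.affineOpens // ∃ V : Y.affineOpens, (U : X.Opens) ≤ f ⁻¹ᵁ (V : Y.Opens)}
  refine QCoh.isQuasicoherent_of_smulLift_of_smulSep F (fun i : ι => i.1.1) ?_ (fun i => i.1.2) ?_
  · refine top_le_iff.1 fun x _ => ?_
    obtain ⟨U, V, e, hx, -, -⟩ := exists_chart f (⊤ : X.Opens) (x := x) trivial ⊤ trivial
    exact Opens.mem_iSup.2 ⟨⟨U, V, e⟩, hx⟩
  rintro ⟨U, V, e⟩ g
  let U' : X.affineOpens := ⟨X.basicOpen g, U.2.basicOpen g⟩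
  have hU : U'.1 ≤ U.1 := X.basicOpen_le g
  have e' : (U' : X.Opens) ≤ f ⁻¹ᵁ (V : Y.Opens) := hU.trans e
  let a : Γ(Y, V.1) →+* Γ(Y, V.1) := (Y.presheaf.map (homOfLE (le_refl V.1)).op).hom
  have ha : a = RingHom.id _ := by
    show (Y.presheaf.map (𝟙 _)).hom = _
    rw [Y.presheaf.map_id]; rfl
  have w₁ : (f.appLE V.1 U'.1 (hU.trans e)).hom = (f.appLE V.1 U'.1 e').hom.comp a :=
    (congrArg CommRingCat.Hom.hom (Scheme.Hom.map_appLE f e' (homOfLE le_rfl).op).symm).trans (CommRingCat.hom_comp _ _)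
  have w₂ : (f.appLE V.1 U'.1 (hU.trans e)).hom =
      (X.presheaf.map (homOfLE hU).op).hom.comp (f.appLE V.1 U.1 e).hom :=
    (congrArg CommRingCat.Hom.hom (Scheme.Hom.appLE_map f e (homOfLE hU).op).symm).trans (CommRingCat.hom_comp _ _)
  obtain ⟨hker, hsur⟩ := h1map_localization (f.appLE V.1 U.1 e).hom (f.appLE V.1 U'.1 e').hom a
    (X.presheaf.map (homOfLE hU).op).hom (f.appLE V.1 U'.1 (hU.trans e)).hom w₁ w₂
    (by
      show @Algebra.FormallyEtale Γ(Y, V.1) Γ(Y, V.1) _ _ a.toAlgebra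
      rw [ha]
      exact (inferInstance : Algebra.FormallyEtale Γ(Y, V.1) Γ(Y, V.1)))
    (Submonoid.powers g) (U.2.isLocalization_basicOpen g)
  have hres : ∀ t : Γ(F, U.1), D.iso U' V e' (F.presheaf.map (homOfLE hU).op t) =
      h1map _ _ _ _ _ w₁ w₂ (D.iso U V e t) := fun t => D.map_res e e' hU le_rfl t
  refine ⟨fun s => ?_, fun t ht => ?_⟩
  · obtain ⟨_, ⟨n, rfl⟩, z, hz⟩ := hsur (D.iso U' V e' s)
    refine ⟨n, (D.iso U V e).symm z, (D.iso U' V e').injective ?_⟩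
    refine ((hres _).trans ?_).trans (D.map_smul U' V e' _ s).symm
    rw [AddEquiv.apply_symm_apply, ← hz, map_pow]
  · obtain ⟨_, ⟨n, rfl⟩, hn⟩ := (hker (D.iso U V e t)).1
      ((hres t).symm.trans ((congrArg (D.iso U' V e') ht).trans (map_zero _)))
    exact ⟨n, (D.iso U V e).injective ((D.map_smul U V e _ t).trans (hn.trans (map_zero _).symm))⟩

end GrothLib.H1Sheaf6
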