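import Mathlib.RingTheory.Etale.Kaehler
import Mathlib.RingTheory.Smooth.Basic
import Mathlib.RingTheory.Kaehler.JacobiZariski
import Mathlib.RingTheory.Etale.Basic

/-! # The first homology of the naive cotangent complex under maps of squares of rings -/

set_option autoImplicit false
set_option linter.style.haveILetI false
universe u

noncomputable section

open Algebra
open scoped TensorProduct

namespace GrothLib.H1Sheaf6

/-- Changing the base along a formally étale map does not change `H¹(L)`. -/
theorem bijective_map_of_formallyEtale (A A' B : Type u) [CommRing A] [CommRing A'] [CommRing B]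
    [Algebra A A'] [Algebra A' B] [Algebra A B] [IsScalarTower A A' B] [FormallyEtale A A'] :
    Function.Bijective (H1Cotangent.map A A' B B) := by
  let P := (Generators.self A' B).toExtension
  haveI : FormallySmooth A' P.Ring := inferInstanceAs (FormallySmooth A' (MvPolynomial B A'))
  letI : Algebra A P.Ring := ((algebraMap A' P.Ring).comp (algebraMap A A')).toAlgebra
  haveI : IsScalarTower A A' P.Ring := IsScalarTower.of_algebraMap_eq' rfl
  haveI : IsScalarTower A P.Ring B := IsScalarTower.of_algebraMap_eq fun a => by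
    show algebraMap A B a = algebraMap P.Ring B (algebraMap A' P.Ring (algebraMap A A' a))
    rw [← IsScalarTower.algebraMap_apply A' P.Ring B, ← IsScalarTower.algebraMap_apply]
  haveI hsm : FormallySmooth A P.Ring := FormallySmooth.comp A A' P.Ring
  let P₀ : Extension.{u} A B := { Ring := P.Ring, σ := P.σ, algebraMap_σ := P.algebraMap_σ }
  haveI : FormallySmooth A P₀.Ring := hsm
  let f : P₀.Hom P :=
    { toRingHom := RingHom.id P.Ring
      toRingHom_algebraMap := fun _ => rfl
      algebraMap_toRingHom := fun _ => rfl }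
  let h := ((Generators.self A B).defaultHom (Generators.self A' B)).toExtensionHom
  let g : (Generators.self A B).toExtension.Hom P₀ :=
    { toRingHom := h.toRingHom
      toRingHom_algebraMap := fun x => h.toRingHom_algebraMap x
      algebraMap_toRingHom := fun x => h.algebraMap_toRingHom x }
  haveI : FormallySmooth A (Generators.self A B).toExtension.Ring :=
    inferInstanceAs (FormallySmooth A (MvPolynomial B A))
  have hg : Function.Bijective (Extension.H1Cotangent.map g) := by
    rw [← Extension.H1Cotangent.equivOfFormallySmooth_toLinearMap g]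
    exact LinearEquiv.bijective _
  have hΩ : Function.Injective (KaehlerDifferential.map A A' P.Ring P.Ring) := by
    rw [injective_iff_map_eq_zero]
    intro x hx
    obtain ⟨y, rfl⟩ := (KaehlerDifferential.exact_mapBaseChange_map A A' P.Ring x).1 hx
    haveI : Subsingleton Ω[A'⁄A] := FormallyUnramified.subsingleton_kaehlerDifferential
    rw [Subsingleton.elim y 0, map_zero]
  let ω := LinearEquiv.ofBijective (KaehlerDifferential.map A A' P.Ring P.Ring)
    ⟨hΩ, KaehlerDifferential.map_surjective A A' P.Ring⟩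
  have hcs : Function.Injective (Extension.CotangentSpace.map f) := by
    let k := LinearMap.lTensor B ω.symm.toLinearMap
    refine Function.LeftInverse.injective (g := k) fun x => ?_
    induction x using TensorProduct.induction_on with
    | zero => simp [k]
    | tmul b z =>
      have h1 : Extension.CotangentSpace.map f (b ⊗ₜ z) = b ⊗ₜ[P.Ring] (ω z) := by
        simp [Extension.CotangentSpace.map, ω, f]
        rw [TensorProduct.smul_tmul']
        exact congrArg (· ⊗ₜ[P.Ring] _) (mul_one b)
      rw [h1]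
      show b ⊗ₜ[P.Ring] ω.symm (ω z) = _
      rw [LinearEquiv.symm_apply_apply]
    | add a b ha hb => rw [map_add, map_add, ha, hb]
  have hfc : ∀ x, (Extension.Cotangent.map f x).val = x.val := fun x => by
    obtain ⟨⟨y, hy⟩, rfl⟩ := Extension.Cotangent.mk_surjective x
    rfl
  have hf : Function.Bijective (Extension.H1Cotangent.map f) := by
    constructor
    · intro x y hxy
      refine Subtype.ext (Extension.Cotangent.ext ?_)
      rw [← hfc x.1, ← hfc y.1]
      exact congrArg Extension.Cotangent.val (congrArg Subtype.val hxy)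
    · rintro ⟨y, hy⟩
      obtain ⟨⟨z, hz⟩, rfl⟩ := Extension.Cotangent.mk_surjective y
      refine ⟨⟨Extension.Cotangent.mk (P := P₀) ⟨z, hz⟩, ?_⟩, Subtype.ext rfl⟩
      refine LinearMap.mem_ker.2 (hcs ?_)
      rw [Extension.CotangentSpace.map_cotangentComplex, map_zero]
      exact hy
  have key : ∀ x, H1Cotangent.map A A' B B x = Extension.H1Cotangent.map f (Extension.H1Cotangent.map g x) :=
    fun x => by
      rw [← Extension.H1Cotangent.map_comp_apply, H1Cotangent.map, Extension.H1Cotangent.map_eq _ (f.comp g)]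
  rw [show (⇑(H1Cotangent.map A A' B B)) = ⇑(Extension.H1Cotangent.map f) ∘ ⇑(Extension.H1Cotangent.map g) from
    funext key]
  exact hf.comp hg

variable {A B A' B' A'' B'' : Type u} [CommRing A] [CommRing B] [CommRing A'] [CommRing B'] [CommRing A''] [CommRing B'']

/-- `H¹(L)` of a ring map. -/
abbrev H1 (φ : A →+* B) : Type u :=
  letI := φ.toAlgebra
  Algebra.H1Cotangent A B

/-- The map on `H¹(L)` of a commutative square. -/
def h1map (φ : A →+* B) (φ' : A' →+* B') (a : A →+* A') (b : B →+* B') (c : A →+* B') (h₁ : c = φ'.comp a)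
    (h₂ : c = b.comp φ) : H1 φ →+ H1 φ' :=
  letI := φ.toAlgebra
  letI := φ'.toAlgebra
  letI := c.toAlgebra
  letI := b.toAlgebra
  letI := a.toAlgebra
  haveI : IsScalarTower A A' B' := IsScalarTower.of_algebraMap_eq' h₁
  haveI : IsScalarTower A B B' := IsScalarTower.of_algebraMap_eq' h₂
  (Algebra.H1Cotangent.map A A' B B').toAddMonoidHom

theorem h1map_smul (φ : A →+* B) (φ' : A' →+* B') (a : A →+* A') (b : B →+* B') (c : A →+* B')
    (h₁ : c = φ'.comp a) (h₂ : c = b.comp φ) (x : B) (z : H1 φ) :
    h1map φ φ' a b c h₁ h₂ (x • z) = b x • h1map φ φ' a b c h₁ h₂ z := by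
  letI := φ.toAlgebra
  letI := φ'.toAlgebra
  letI := c.toAlgebra
  letI := b.toAlgebra
  letI := a.toAlgebra
  haveI : IsScalarTower A A' B' := IsScalarTower.of_algebraMap_eq' h₁
  haveI : IsScalarTower A B B' := IsScalarTower.of_algebraMap_eq' h₂
  show Algebra.H1Cotangent.map A A' B B' (x • z) = algebraMap B B' x • Algebra.H1Cotangent.map A A' B B' z
  rw [map_smul, algebraMap_smul]

theorem h1map_comp (φ : A →+* B) (φ' : A' →+* B') (φ'' : A'' →+* B'') (a : A →+* A') (b : B →+* B')
    (c : A →+* B') (h₁ : c = φ'.comp a) (h₂ : c = b.comp φ) (a' : A' →+* A'') (b' : B' →+* B'')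
    (c' : A' →+* B'') (h₁' : c' = φ''.comp a') (h₂' : c' = b'.comp φ') (a'' : A →+* A'') (b'' : B →+* B'')
    (c'' : A →+* B'') (h₁'' : c'' = φ''.comp a'') (h₂'' : c'' = b''.comp φ) (ha : a'' = a'.comp a)
    (hb : b'' = b'.comp b) (z : H1 φ) :
    h1map φ' φ'' a' b' c' h₁' h₂' (h1map φ φ' a b c h₁ h₂ z) = h1map φ φ'' a'' b'' c'' h₁'' h₂'' z := by
  letI := φ.toAlgebra
  letI := φ'.toAlgebra
  letI := φ''.toAlgebra
  letI := c.toAlgebra
  letI := b.toAlgebra
  letI := a.toAlgebra
  letI := c'.toAlgebra
  letI := b'.toAlgebra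
  letI := a'.toAlgebra
  letI := c''.toAlgebra
  letI := b''.toAlgebra
  letI := a''.toAlgebra
  haveI : IsScalarTower A A' B' := IsScalarTower.of_algebraMap_eq' h₁
  haveI : IsScalarTower A B B' := IsScalarTower.of_algebraMap_eq' h₂
  haveI : IsScalarTower A' A'' B'' := IsScalarTower.of_algebraMap_eq' h₁'
  haveI : IsScalarTower A' B' B'' := IsScalarTower.of_algebraMap_eq' h₂'
  haveI : IsScalarTower A A'' B'' := IsScalarTower.of_algebraMap_eq' h₁''
  haveI : IsScalarTower A B B'' := IsScalarTower.of_algebraMap_eq' h₂''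
  haveI : IsScalarTower A A' A'' := IsScalarTower.of_algebraMap_eq' ha
  haveI : IsScalarTower B B' B'' := IsScalarTower.of_algebraMap_eq' hb
  show Algebra.H1Cotangent.map A' A'' B' B'' (Algebra.H1Cotangent.map A A' B B' z) =
    Algebra.H1Cotangent.map A A'' B B'' z
  rw [Algebra.H1Cotangent.map, Algebra.H1Cotangent.map, ← Extension.H1Cotangent.map_comp_apply,
    Algebra.H1Cotangent.map, Extension.H1Cotangent.map_eq]

/-- Localising the source of a ring map localises `H¹(L)`. -/
theorem h1map_localization (φ : A →+* B) (φ' : A' →+* B') (a : A →+* A') (b : B →+* B') (c : A →+* B')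
    (h₁ : c = φ'.comp a) (h₂ : c = b.comp φ) (ha : letI := a.toAlgebra; FormallyEtale A A')
    (M : Submonoid B) (hM : letI := b.toAlgebra; IsLocalization M B') :
    (∀ z, h1map φ φ' a b c h₁ h₂ z = 0 ↔ ∃ s ∈ M, s • z = 0) ∧
      ∀ w, ∃ s ∈ M, ∃ z, b s • w = h1map φ φ' a b c h₁ h₂ z := by
  letI := φ.toAlgebra
  letI := φ'.toAlgebra
  letI := c.toAlgebra
  letI := b.toAlgebra
  letI := a.toAlgebra
  haveI : IsScalarTower A A' B' := IsScalarTower.of_algebraMap_eq' h₁
  haveI : IsScalarTower A B B' := IsScalarTower.of_algebraMap_eq' h₂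
  haveI := ha
  haveI := hM
  let L := Algebra.H1Cotangent.map A A B B'
  haveI : IsLocalizedModule M L := inferInstance
  let E := Algebra.H1Cotangent.map A A' B' B'
  have hE : Function.Bijective E := bijective_map_of_formallyEtale A A' B'
  have key : ∀ z, h1map φ φ' a b c h₁ h₂ z = E (L z) := fun z => by
    show Algebra.H1Cotangent.map A A' B B' z = E (L z)
    simp only [E, L, Algebra.H1Cotangent.map]
    rw [← Extension.H1Cotangent.map_comp_apply, Extension.H1Cotangent.map_eq]
  refine ⟨fun z => ?_, fun w => ?_⟩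
  · rw [key, map_eq_zero_iff E hE.1, IsLocalizedModule.eq_zero_iff M L]
    exact ⟨fun ⟨⟨s, hs⟩, h⟩ => ⟨s, hs, h⟩, fun ⟨s, hs, h⟩ => ⟨⟨s, hs⟩, h⟩⟩
  · obtain ⟨v, rfl⟩ := hE.2 w
    obtain ⟨⟨z, ⟨s, hs⟩⟩, hz⟩ := IsLocalizedModule.surj M L v
    refine ⟨s, hs, z, ?_⟩
    rw [key, ← hz, ← map_smul]
    exact congrArg E (algebraMap_smul B' s v)

end GrothLib.H1Sheaf6
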