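import Groth.Agent.Lib.H1Sheaf6.Germ
import Mathlib.Topology.Sheaves.SheafCondition.UniqueGluing

/-! # The sheaf `H¹` of the naive cotangent complex -/

set_option autoImplicit false
set_option linter.style.haveILetI false
set_option backward.isDefEq.respectTransparency false
set_option maxHeartbeats 1000000
universe u

noncomputable section

open CategoryTheory CategoryTheory.Limits AlgebraicGeometry Opposite TopologicalSpace

namespace GrothLib.H1Sheaf6

variable {X Y : Scheme.{u}} (f : X ⟶ Y)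

/-- Families of germs over an open, as a module over its functions. -/
@[instance_reducible] def germModule (W : X.Opens) (x : W) : Module Γ(X, W) (HS f x.1) :=
  Module.compHom _ (X.presheaf.germ W x.1 x.2).hom

attribute [local instance] germModule

/-- The families of germs which are locally fractions. -/
def repSub (W : X.Opens) : Submodule Γ(X, W) (∀ x : W, HS f x.1) where
  carrier := {s | IsRep f s}
  zero_mem' x := by
    obtain ⟨U, V, e, hx, -, -⟩ := exists_chart f W x.2 ⊤ trivial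
    refine ⟨U, V, e, 1, 0, by rwa [Scheme.basicOpen_of_isUnit _ isUnit_one], fun y _ _ => ?_⟩
    simp
  add_mem' {s t} hs ht x := by
    obtain ⟨U₁, V₁, e₁, c₁, z₁, hx₁, h₁⟩ := hs x
    obtain ⟨U₂, V₂, e₂, c₂, z₂, hx₂, h₂⟩ := ht x
    obtain ⟨U, V, e, hx, hU, hV⟩ := exists_chart f (U₁.1 ⊓ U₂.1)
      ⟨X.basicOpen_le c₁ hx₁, X.basicOpen_le c₂ hx₂⟩ (V₁.1 ⊓ V₂.1)
      ⟨e₁ (X.basicOpen_le c₁ hx₁), e₂ (X.basicOpen_le c₂ hx₂)⟩
    have g₁ := h₁.res e (hU.trans inf_le_left) (hV.trans inf_le_left)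
    have g₂ := h₂.res e (hU.trans inf_le_right) (hV.trans inf_le_right)
    let d₁ := X.presheaf.map (homOfLE (hU.trans inf_le_left)).op c₁
    let d₂ := X.presheaf.map (homOfLE (hU.trans inf_le_right)).op c₂
    refine ⟨U, V, e, d₁ * d₂, d₂ • NLCx.chartRes e₁ e (hU.trans inf_le_left) (hV.trans inf_le_left) z₁ +
      d₁ • NLCx.chartRes e₂ e (hU.trans inf_le_right) (hV.trans inf_le_right) z₂, ?_, fun y hW hy => ?_⟩
    · rw [Scheme.basicOpen_mul, Scheme.basicOpen_res, Scheme.basicOpen_res]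
      exact ⟨⟨hx, hx₁⟩, hx, hx₂⟩
    · rw [Scheme.basicOpen_mul] at hy
      rw [map_add, phi_smul, phi_smul, ← g₁ y hW hy.1, ← g₂ y hW hy.2, map_mul, smul_smul, smul_smul]
      show _ • (s ⟨y, hW⟩ + t ⟨y, hW⟩) = _
      rw [smul_add, mul_comm (X.presheaf.germ U.1 y (X.basicOpen_le _ hy.1) d₂)]
  smul_mem' r s hs x := by
    obtain ⟨U₁, V₁, e₁, c₁, z₁, hx₁, h₁⟩ := hs x
    obtain ⟨U, V, e, hx, hU, hV⟩ := exists_chart f (U₁.1 ⊓ W) ⟨X.basicOpen_le c₁ hx₁, x.2⟩ V₁.1
      (e₁ (X.basicOpen_le c₁ hx₁))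
    have g₁ := h₁.res e (hU.trans inf_le_left) hV
    refine ⟨U, V, e, X.presheaf.map (homOfLE (hU.trans inf_le_left)).op c₁,
      X.presheaf.map (homOfLE (hU.trans inf_le_right)).op r • NLCx.chartRes e₁ e (hU.trans inf_le_left) hV z₁,
      by rw [Scheme.basicOpen_res]; exact ⟨hx, hx₁⟩, fun y hW hy => ?_⟩
    rw [phi_smul, ← g₁ y hW hy]
    show _ • (X.presheaf.germ W y hW r • s ⟨y, hW⟩) = _
    rw [smul_comm]
    congr 1
    rw [TopCat.Presheaf.germ_res_apply]

/-- Restriction of families of germs. -/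
def repRes {W W' : X.Opens} (h : W' ≤ W) : repSub f W →+ repSub f W' where
  toFun s := ⟨fun x => s.1 ⟨x.1, h x.2⟩, fun x => by
    obtain ⟨U, V, e, c, z, hx, hr⟩ := s.2 ⟨x.1, h x.2⟩
    exact ⟨U, V, e, c, z, hx, fun y hW hy => hr y (h hW) hy⟩⟩
  map_zero' := rfl
  map_add' _ _ := rfl

/-- The presheaf of families of germs. -/
def repPre : TopCat.Presheaf AddCommGrpCat.{u} X.carrier where
  obj W := AddCommGrpCat.of (repSub f W.unop)
  map i := AddCommGrpCat.ofHom (repRes f (leOfHom i.unop))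
  map_id _ := rfl
  map_comp _ _ := rfl

theorem repPre_isSheaf : (repPre f).IsSheaf := by
  refine (TopCat.Presheaf.isSheaf_iff_isSheafUniqueGluing _).mpr fun ι W sf hsf => ?_
  have hmem : ∀ x : ↥(iSup W), ∃ i, x.1 ∈ W i := fun x => Opens.mem_iSup.1 x.2
  choose i hi using hmem
  let s : ∀ x : ↥(iSup W), HS f x.1 := fun x => (sf (i x)).1 ⟨x.1, hi x⟩
  have hs : ∀ (j) (y : X) (hy : y ∈ W j), s ⟨y, Opens.mem_iSup.2 ⟨j, hy⟩⟩ = (sf j).1 ⟨y, hy⟩ := fun j y hy =>
    congrFun (congrArg Subtype.val (hsf (i ⟨y, Opens.mem_iSup.2 ⟨j, hy⟩⟩) j))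
      ⟨y, hi ⟨y, Opens.mem_iSup.2 ⟨j, hy⟩⟩, hy⟩
  refine ⟨⟨s, fun x => ?_⟩, fun j => Subtype.ext (funext fun y => hs j y.1 y.2),
    fun t ht => Subtype.ext (funext fun x => ?_)⟩
  · obtain ⟨U, V, e, c, z, hx, hr⟩ := (sf (i x)).2 ⟨x.1, hi x⟩
    obtain ⟨U', V', e', hx', hU, hV⟩ := exists_chart f (W (i x) ⊓ U.1) ⟨hi x, X.basicOpen_le c hx⟩ V.1
      (e (X.basicOpen_le c hx))
    refine ⟨U', V', e', X.presheaf.map (homOfLE (hU.trans inf_le_right)).op c,
      NLCx.chartRes e e' (hU.trans inf_le_right) hV z, ?_, fun y hW hy => ?_⟩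
    rotate_left
    · rw [hs (i x) y (hU (X.basicOpen_le _ hy)).1]
      exact hr.res e' (hU.trans inf_le_right) hV y (hU (X.basicOpen_le _ hy)).1 hy
    · rw [Scheme.basicOpen_res]
      exact ⟨hx', hx⟩
  · exact congrFun (congrArg Subtype.val (ht (i x))) ⟨x.1, hi x⟩

/-- **The sheaf `H¹` of the naive cotangent complex.** -/
def sheaf : X.Modules where
  val :=
    letI (W : (X.Opens)ᵒᵖ) : Module ↑(X.ringCatSheaf.obj.obj W) ↑((repPre f).obj W) :=
      inferInstanceAs (Module Γ(X, W.unop) (repSub f W.unop))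
    PresheafOfModules.ofPresheaf (repPre f) fun W W' i r (t : repSub f W.unop) => Subtype.ext (funext fun x => by
      show X.presheaf.germ W.unop x.1 _ r • t.1 ⟨x.1, _⟩ =
        X.presheaf.germ W'.unop x.1 x.2 (X.presheaf.map i r) • t.1 ⟨x.1, _⟩
      rw [show i = (homOfLE (leOfHom i.unop)).op from rfl, TopCat.Presheaf.germ_res_apply])
  isSheaf := repPre_isSheaf f

variable (U : X.affineOpens) (V : Y.affineOpens) (e : (U : X.Opens) ≤ f ⁻¹ᵁ (V : Y.Opens))

/-- The family of germs of a chart element. -/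
def toFam (z : NLCx.ChartH1 f U V e) : repSub f U.1 :=
  ⟨fun x => phi f U V e x.1 x.2 z, fun x => ⟨U, V, e, 1, z, by rw [Scheme.basicOpen_of_isUnit _ isUnit_one]; exact x.2,
    fun y _ _ => by rw [map_one, one_smul]⟩⟩

theorem exists_eq_toFam (s : repSub f U.1) : ∃ z, toFam f U V e z = s := by
  classical
  have hloc : ∀ x : U.1, ∃ (c : Γ(X, U.1)) (z : NLCx.ChartH1 f U V e), x.1 ∈ X.basicOpen c ∧
      RepBy f s.1 U V e c z := by
    intro x
    obtain ⟨U₁, V₁, e₁, c₁, z₁, hx₁, h₁⟩ := s.2 x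
    obtain ⟨c, hc, z, hz⟩ := (phi_localization f U V e x.1 x.2).2 (s.1 x)
    obtain ⟨U', V', e', hx', hU, hV⟩ := exists_chart f (U.1 ⊓ U₁.1) ⟨x.2, X.basicOpen_le c₁ hx₁⟩ (V.1 ⊓ V₁.1)
      ⟨e x.2, e₁ (X.basicOpen_le c₁ hx₁)⟩
    have g₁ := h₁.res e' (hU.trans inf_le_right) (hV.trans inf_le_right)
    let c' := X.presheaf.map (homOfLE (hU.trans inf_le_left)).op c
    let d₁ := X.presheaf.map (homOfLE (hU.trans inf_le_right)).op c₁
    let w := d₁ • NLCx.chartRes e e' (hU.trans inf_le_left) (hV.trans inf_le_left) z -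
      c' • NLCx.chartRes e₁ e' (hU.trans inf_le_right) (hV.trans inf_le_right) z₁
    have hd₁ : x.1 ∈ X.basicOpen d₁ := by rw [Scheme.basicOpen_res]; exact ⟨hx', hx₁⟩
    have hw : phi f U' V' e' x.1 hx' w = 0 := by
      rw [map_sub, phi_smul, phi_smul, phi_res, ← hz, ← g₁ x.1 x.2 hd₁, TopCat.Presheaf.germ_res_apply,
        TopCat.Presheaf.germ_res_apply, smul_comm, sub_self]
    obtain ⟨d, hd, hdw⟩ := ((phi_localization f U' V' e' x.1 hx').1 w).1 hw
    have hxd : x.1 ∈ X.basicOpen d := (WeakAss.notMem_primeAt_iff (x := x.1) (hx := hx')).1 hd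
    obtain ⟨g, hgle, hxg⟩ := U.2.exists_basicOpen_le
      (V := X.basicOpen c ⊓ (X.basicOpen d ⊓ X.basicOpen d₁))
      ⟨x.1, (WeakAss.notMem_primeAt_iff (x := x.1) (hx := x.2)).1 hc, hxd, hd₁⟩ x.2
    refine ⟨c * g, g • z, ?_, fun y hW hy => ?_⟩
    · rw [Scheme.basicOpen_mul]
      exact ⟨(WeakAss.notMem_primeAt_iff (x := x.1) (hx := x.2)).1 hc, hxg⟩
    · rw [Scheme.basicOpen_mul] at hy
      obtain ⟨hyc, hyd, hyd₁⟩ := hgle hy.2
      have hyU' : y ∈ U'.1 := X.basicOpen_le d hyd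
      have h0 : phi f U' V' e' y hyU' w = 0 := by
        refine (isUnit_germ hyd).smul_left_cancel.1 (Eq.trans ?_ (smul_zero _).symm)
        rw [← phi_smul, hdw, map_zero]
      rw [map_sub, phi_smul, phi_smul, phi_res, sub_eq_zero, ← g₁ y hW hyd₁, TopCat.Presheaf.germ_res_apply,
        TopCat.Presheaf.germ_res_apply, smul_comm (X.presheaf.germ U.1 y _ c) (X.presheaf.germ U₁.1 y _ c₁)] at h0
      have hu : IsUnit (X.presheaf.germ U₁.1 y ((hU.trans inf_le_right) hyU') c₁) :=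
        isUnit_germ (c := c₁) (by rw [Scheme.basicOpen_res] at hyd₁; exact hyd₁.2)
      rw [phi_smul, hu.smul_left_cancel.1 h0, map_mul, mul_smul, smul_comm]
  choose c z hxc hz using hloc
  obtain ⟨T, hT⟩ := U.2.isCompact.elim_finite_subcover (fun x : U.1 => (X.basicOpen (c x) : Set X))
    (fun x => (X.basicOpen (c x)).isOpen) fun x hx => Set.mem_iUnion.2 ⟨⟨x, hx⟩, hxc _⟩
  have hTc : ∀ y ∈ U.1, ∃ a ∈ T, y ∈ X.basicOpen (c a) := fun y hy => by
    obtain ⟨a, ha, hy'⟩ := Set.mem_iUnion₂.1 (hT hy)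
    exact ⟨a, ha, hy'⟩
  -- the overlaps
  have hov : ∀ a b : U.1, ∃ n : ℕ, (c a * c b) ^ n • (c b • z a - c a • z b) = 0 := by
    intro a b
    let w := c b • z a - c a • z b
    let K : Ideal Γ(X, U.1) :=
      { carrier := {r | r • w = 0}
        add_mem' := fun {p q} hp hq => by simp only [Set.mem_ofPred_eq] at hp hq ⊢; rw [add_smul, hp, hq, add_zero]
        zero_mem' := zero_smul _ _
        smul_mem' := fun r p hp => by
          simp only [Set.mem_ofPred_eq] at hp ⊢; rw [smul_eq_mul, mul_smul, hp, smul_zero] }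
    have hrad : c a * c b ∈ K.radical := by
      rw [Ideal.radical_eq_sInf, Ideal.mem_sInf]
      rintro P ⟨hKP, hP⟩
      by_contra hn
      obtain ⟨y, hy, rfl⟩ := AssPts.exists_point U.2 P hP
      have hy' := (WeakAss.notMem_primeAt_iff (x := y) (hx := hy)).1 hn
      rw [Scheme.basicOpen_mul] at hy'
      have h0 : phi f U V e y hy w = 0 := by
        rw [map_sub, phi_smul, phi_smul, ← hz a y hy hy'.1, ← hz b y hy hy'.2, smul_comm, sub_self]
      obtain ⟨d, hd, hdw⟩ := ((phi_localization f U V e y hy).1 w).1 h0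
      exact hd (hKP hdw)
    exact hrad
  choose n hn using hov
  let N := (T ×ˢ T).sup fun p => n p.1 p.2
  have hN : ∀ a ∈ T, ∀ b ∈ T, (c a * c b) ^ N • (c b • z a - c a • z b) = 0 := fun a ha b hb => by
    obtain ⟨k, hk⟩ := Nat.exists_eq_add_of_le (Finset.le_sup (f := fun p => n p.1 p.2)
      (Finset.mk_mem_product ha hb))
    rw [show N = n a b + k from hk, pow_add, mul_comm, mul_smul, hn a b, smul_zero]
  -- the ideal of denominators
  let I : Ideal Γ(X, U.1) :=
    { carrier := {r | ∃ v, ∀ (y : X) (hy : y ∈ U.1), X.presheaf.germ U.1 y hy r • s.1 ⟨y, hy⟩ = phi f U V e y hy v}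
      add_mem' := by
        rintro p q ⟨v, hv⟩ ⟨v', hv'⟩
        exact ⟨v + v', fun y hy => by rw [map_add, add_smul, hv y hy, hv' y hy, map_add]⟩
      zero_mem' := ⟨0, fun y hy => by rw [map_zero, zero_smul, map_zero]⟩
      smul_mem' := by
        rintro r p ⟨v, hv⟩
        exact ⟨r • v, fun y hy => by rw [smul_eq_mul, map_mul, mul_smul, hv y hy, phi_smul]⟩ }
  have hI : ∀ a ∈ T, c a ^ (N + 1) ∈ I := fun a ha => by
    refine ⟨c a ^ N • z a, fun y hy => ?_⟩
    obtain ⟨b, hb, hyb⟩ := hTc y hy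
    have h1 := congrArg (phi f U V e y hy) (hN a ha b hb)
    rw [map_zero, phi_smul, map_sub, phi_smul, phi_smul, ← hz b y hy hyb, map_pow, map_mul, mul_pow, smul_sub,
      sub_eq_zero] at h1
    have hu := isUnit_germ hyb
    refine (hu.pow (N + 1)).smul_left_cancel.1 ?_
    rw [phi_smul, map_pow, map_pow]
    refine Eq.trans ?_ (h1.symm.trans ?_)
    · simp only [smul_smul]
      congr 1
      ring
    · simp only [smul_smul]
      congr 1
      ring
  obtain ⟨v, hv⟩ : (1 : Γ(X, U.1)) ∈ I := FlatFP.one_mem_of_forall_point U.2 I fun y hy => by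
    obtain ⟨a, ha, hya⟩ := hTc y hy
    exact ⟨_, hI a ha, fun h => (WeakAss.notMem_primeAt_iff (x := y) (hx := hy)).2 hya
      (Ideal.IsPrime.mem_of_pow_mem inferInstance (N + 1) h)⟩
  exact ⟨v, Subtype.ext (funext fun x => by
    show phi f U V e x.1 x.2 v = s.1 x
    rw [← hv x.1 x.2, map_one, one_smul])⟩

theorem bijective_toFam : Function.Bijective (toFam f U V e) := by
  refine ⟨fun z z' h => sub_eq_zero.1 (eq_zero_of_phi f U V e _ fun x hx => ?_), exists_eq_toFam f U V e⟩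
  rw [map_sub, sub_eq_zero]
  exact congrFun (congrArg Subtype.val h) ⟨x, hx⟩

variable {U V}

/-- The sections of the sheaf over the source of a chart. -/
def famEquiv : NLCx.ChartH1 f U V e ≃+ repSub f U.1 :=
  AddEquiv.ofBijective (AddMonoidHom.mk' (toFam f U V e) fun a b => Subtype.ext (funext fun x =>
    map_add (phi f U V e x.1 x.2) a b)) (bijective_toFam f U V e)

/-- The sheaf carries the data of `H¹` of the naive cotangent complex. -/
def h1Sheaf : NLCx.H1Sheaf f (sheaf f) where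
  iso U V e := (famEquiv f e).symm
  map_smul U V e a m := by
    apply (famEquiv f e).injective
    refine ((famEquiv f e).apply_symm_apply _).trans ?_
    refine Subtype.ext (funext fun x => ?_)
    show X.presheaf.germ U.1 x.1 x.2 a • (show repSub f U.1 from m).1 x = phi f U V e x.1 x.2 (a • _)
    rw [phi_smul]
    exact congrArg (_ • ·) (congrFun (congrArg Subtype.val ((famEquiv f e).apply_symm_apply m).symm) x)
  map_res {U U' V V'} e e' hU hV m := by
    apply (famEquiv f e').injective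
    refine ((famEquiv f e').apply_symm_apply _).trans ?_
    refine Subtype.ext (funext fun x => ?_)
    show (show repSub f U.1 from m).1 ⟨x.1, hU x.2⟩ = phi f U' V' e' x.1 x.2 _
    rw [phi_res]
    exact congrFun (congrArg Subtype.val ((famEquiv f e).apply_symm_apply m).symm) ⟨x.1, hU x.2⟩

end GrothLib.H1Sheaf6
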